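import Groth.Agent.Lib.KrullAkizuki.DVR
import Mathlib.RingTheory.DedekindDomain.AdicValuation
import Mathlib.RingTheory.DedekindDomain.Factorization

/-!
# Common poles at finitely many one-dimensional local domains
-/

universe u

set_option autoImplicit false

open IsDedekindDomain

namespace Groth.Agent.PoleSec15

variable {K : Type u} [Field K]

/-- One element of a subring with poles at finitely many valuations. -/
theorem exists_forall_one_lt {Γ₀ : Type} [LinearOrderedCommGroupWithZero Γ₀] {ι : Type*}
    (S : Finset ι) (v : ι → Valuation K Γ₀) (C : Subring K) (h : ∀ i ∈ S, ∃ c ∈ C, 1 < v i c) :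
    ∃ f ∈ C, ∀ i ∈ S, 1 < v i f := by
  classical
  induction S using Finset.induction with
  | empty => exact ⟨0, C.zero_mem, fun i hi => absurd hi (Finset.notMem_empty i)⟩
  | insert a S _ ih =>
    obtain ⟨g, hgC, hg⟩ := ih fun i hi => h i (Finset.mem_insert_of_mem hi)
    by_cases hga : 1 < v a g
    · exact ⟨g, hgC, Finset.forall_mem_insert .. |>.2 ⟨hga, hg⟩⟩
    obtain ⟨c, hcC, hc⟩ := h a (Finset.mem_insert_self a S)
    let bad : ι → Set ℕ := fun i => {N | 1 < v i c ∧ v i c ^ N = v i g}
    have hbad : ∀ i, (bad i).Finite := fun i =>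
      Set.Subsingleton.finite fun N hN N' hN' =>
        (pow_right_strictMono₀ hN.1).injective (hN.2.trans hN'.2.symm)
    obtain ⟨N, hN⟩ := ((S.finite_toSet.biUnion fun i _ => hbad i).union (Set.finite_singleton 0)).exists_notMem
    simp only [Set.mem_union, Set.mem_iUnion, Set.mem_singleton_iff, not_or, not_exists] at hN
    refine ⟨g + c ^ N, C.add_mem hgC (C.pow_mem hcC N), Finset.forall_mem_insert .. |>.2 ⟨?_, fun i hi => ?_⟩⟩
    · have h1 : 1 < v a (c ^ N) := by
        rw [map_pow]; exact one_lt_pow₀ hc hN.2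
      rw [(v a).map_add_eq_of_lt_right (lt_of_le_of_lt (not_lt.1 hga) h1)]
      exact h1
    · by_cases hci : 1 < v i c
      · rcases lt_trichotomy (v i g) (v i (c ^ N)) with hlt | heq | hgt
        · rw [(v i).map_add_eq_of_lt_right hlt, map_pow]
          exact one_lt_pow₀ hci hN.2
        · exact absurd ⟨hci, by rw [← map_pow, heq]⟩ (hN.1 i hi)
        · rw [(v i).map_add_eq_of_lt_left hgt]
          exact hg i hi
      · have h1 : v i (c ^ N) < v i g := by
          rw [map_pow]
          exact lt_of_le_of_lt (pow_le_one₀ zero_le (not_lt.1 hci)) (hg i hi)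
        rw [(v i).map_add_eq_of_lt_left h1]
        exact hg i hi

variable {R : Type u} [CommRing R] [IsDomain R] [Algebra R K] [IsFractionRing R K]

/-- An element of positive order everywhere on the normalisation has its large powers in any
nonzero ideal. -/
theorem exists_forall_pow_mem (b : R) (hb : b ≠ 0) (w : K) (hw : IsIntegral R w)
    (hP : ∀ P : Ideal (integralClosure R K), P.IsPrime → P ≠ ⊥ → (⟨w, hw⟩ : integralClosure R K) ∈ P) :
    ∃ n : ℕ, ∀ N, n ≤ N → ∃ t ∈ Ideal.span {b}, algebraMap R K t = w ^ N := by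
  classical
  let A := Algebra.adjoin R ({w} : Set K)
  obtain ⟨s, hs⟩ := hw.fg_adjoin_singleton
  obtain ⟨⟨c, hc⟩, hcs⟩ := IsLocalization.exist_integer_multiples_of_finset (nonZeroDivisors R) s
  have hcA : ∀ a ∈ A, ∃ r : R, algebraMap R K r = c • a := by
    intro a ha
    have hmem : a ∈ Subalgebra.toSubmodule A := ha
    rw [← hs] at hmem
    clear ha
    induction hmem using Submodule.span_induction with
    | mem x hx => exact hcs x hx
    | zero => exact ⟨0, by simp⟩
    | add x y _ _ hx hy =>
      obtain ⟨r, hr⟩ := hx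
      obtain ⟨r', hr'⟩ := hy
      exact ⟨r + r', by rw [map_add, hr, hr', smul_add]⟩
    | smul a x _ hx =>
      obtain ⟨r, hr⟩ := hx
      exact ⟨a * r, by rw [map_mul, hr, smul_comm c a x, Algebra.smul_def a]⟩
  let e : A := algebraMap R A (c * b)
  have he : e ≠ 0 := fun h => by
    have := congrArg (Subtype.val : A → K) h
    rw [show (e : K) = algebraMap R K (c * b) from rfl] at this
    exact mul_ne_zero (nonZeroDivisors.ne_zero hc) hb
      (IsFractionRing.injective R K (this.trans (map_zero _).symm))
  let wA : A := ⟨w, Algebra.subset_adjoin rfl⟩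
  have hrad : wA ∈ (Ideal.span {e}).radical := by
    rw [Ideal.radical_eq_sInf, Ideal.mem_sInf]
    rintro Q ⟨heQ, hQ⟩
    have hle : A ≤ integralClosure R K := Algebra.adjoin_le (Set.singleton_subset_iff.2 hw)
    letI : Algebra A (integralClosure R K) := (Subalgebra.inclusion hle).toRingHom.toAlgebra
    haveI : IsScalarTower R A (integralClosure R K) := IsScalarTower.of_algebraMap_eq fun _ => rfl
    haveI : Algebra.IsIntegral A (integralClosure R K) :=
      ⟨fun x => IsIntegral.tower_top (R := R) (Algebra.IsIntegral.isIntegral x)⟩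
    have hker : RingHom.ker (algebraMap A (integralClosure R K)) ≤ Q := fun x hx => by
      rw [show x = 0 from Subalgebra.inclusion_injective hle (hx.trans (map_zero _).symm)]
      exact Q.zero_mem
    obtain ⟨P, hP', hPQ⟩ := Ideal.exists_ideal_over_prime_of_isIntegral_of_isDomain
      (S := integralClosure R K) Q hker
    have hmem : ∀ x : A, algebraMap A (integralClosure R K) x ∈ P ↔ x ∈ Q := fun x => by
      rw [← hPQ]; rfl
    refine (hmem wA).1 (hP P hP' fun h => he ?_)
    have := (hmem e).2 (heQ (Ideal.mem_span_singleton_self e))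
    rw [h, Ideal.mem_bot] at this
    exact Subalgebra.inclusion_injective hle (this.trans (map_zero _).symm)
  obtain ⟨n, hn⟩ := hrad
  refine ⟨n, fun N hN => ?_⟩
  obtain ⟨a, ha⟩ := Ideal.mem_span_singleton'.1 ((Ideal.span {e}).pow_mem_of_pow_mem hn hN)
  obtain ⟨r, hr⟩ := hcA a a.2
  refine ⟨r * b, Ideal.mem_span_singleton'.2 ⟨r, rfl⟩, ?_⟩
  have := congrArg (Subtype.val : A → K) ha
  simp only [MulMemClass.coe_mul, SubmonoidClass.coe_pow] at this
  rw [map_mul, hr, ← this, show (e : K) = algebraMap R K (c * b) from rfl, map_mul, Algebra.smul_def]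
  ring

variable [IsNoetherianRing R] [Ring.KrullDimLE 1 R] [IsLocalRing R]

/-- The finitely many valuations of the normalisation of a one-dimensional local domain. -/
theorem exists_valuations (hR : ¬ IsField R) :
    ∃ (ι : Type u) (_ : Fintype ι) (v : ι → Valuation K (WithZero (Multiplicative ℤ))),
      (∀ i, (∀ r : R, v i (algebraMap R K r) ≤ 1) ∧
        ∀ r ∈ IsLocalRing.maximalIdeal R, v i (algebraMap R K r) < 1) ∧
      ∀ w : K, (∀ i, v i w < 1) → ∃ n : ℕ, ∀ N, n ≤ N →
        ∃ t ∈ IsLocalRing.maximalIdeal R, algebraMap R K t = w ^ N := by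
  classical
  haveI : IsDedekindDomain (integralClosure R K) := KrullAkizuki.isDedekindDomain_integralClosure R K K
  obtain ⟨b, hbm, hb⟩ := Submodule.exists_mem_ne_zero_of_ne_bot
    (fun h => hR (IsLocalRing.isField_iff_maximalIdeal_eq.2 h))
  let D := integralClosure R K
  haveI : IsFractionRing D K := integralClosure.isFractionRing_of_finite_extension K K
  have hinj : Function.Injective (algebraMap R D) := fun x y h =>
    IsFractionRing.injective R K (congrArg (Subtype.val : D → K) h)
  have hover : ∀ P : HeightOneSpectrum D, ∀ r ∈ IsLocalRing.maximalIdeal R, algebraMap R D r ∈ P.asIdeal := by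
    intro P r hr
    haveI := P.isPrime
    have hmax : (P.asIdeal.comap (algebraMap R D)).IsMaximal :=
      Ideal.isMaximal_comap_of_isIntegral_of_isMaximal P.asIdeal (hI := P.isMaximal)
    have : r ∈ P.asIdeal.comap (algebraMap R D) := by rw [IsLocalRing.eq_maximalIdeal hmax]; exact hr
    exact this
  have hfin : (Set.univ : Set (HeightOneSpectrum D)).Finite := by
    refine (Ideal.finite_factors (I := Ideal.span {algebraMap R D b}) ?_).subset fun P _ => ?_
    · simpa [Ideal.span_singleton_eq_bot, map_eq_zero_iff _ hinj] using hb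
    · exact Ideal.dvd_iff_le.2 ((Ideal.span_singleton_le_iff_mem _).2 (hover P b hbm))
  haveI : Finite (HeightOneSpectrum D) := Set.finite_univ_iff.1 hfin
  refine ⟨HeightOneSpectrum D, Fintype.ofFinite _, fun P => P.valuation K, fun P => ⟨fun r => ?_, fun r hr => ?_⟩,
    fun w hw => ?_⟩
  · rw [IsScalarTower.algebraMap_apply R D K]
    exact P.valuation_le_one _
  · rw [IsScalarTower.algebraMap_apply R D K, HeightOneSpectrum.valuation_lt_one_iff_mem]
    exact hover P r hr
  · obtain ⟨x, rfl⟩ := HeightOneSpectrum.mem_integers_of_valuation_le_one K w fun P => (hw P).le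
    obtain ⟨n, hn⟩ := exists_forall_pow_mem (K := K) b hb (x : K) x.2 fun P hP hP0 => by
      have := hw ⟨P, hP, hP0⟩
      exact (HeightOneSpectrum.valuation_lt_one_iff_mem _ _).1 this
    refine ⟨n, fun N hN => ?_⟩
    obtain ⟨t, ht, e⟩ := hn N hN
    exact ⟨t, (Ideal.span_singleton_le_iff_mem _).2 hbm ht, e⟩

end Groth.Agent.PoleSec15
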