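import Groth.Agent.Lib.PoleSec15.Scheme

/-!
# Globally generated glued modules
-/

universe u

set_option autoImplicit false
set_option linter.style.haveILetI false

open AlgebraicGeometry CategoryTheory TopologicalSpace Opposite

namespace Groth.Agent.PoleSec15

open Groth.Agent.M1

variable {X : Scheme.{u}}

theorem smul_one' (W : X.Opens) (r : Γ(X, W)) : r • one W = (r : Γ(Coh.structureModule X, W)) := mul_one r

/-- The bundle of a pole datum is globally generated and has a section with non-vanishing locus `U`. -/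
theorem exists_globallyGenerated_of_pole (U : X.Opens) (f : Γ(X, U))
    (h : ∀ x : X, x ∉ U → ∃ (V : X.Opens) (g : Γ(X, V)), x ∈ V ∧
      (∀ z ∈ V, z ∉ U → z = x) ∧ V ⊓ U = X.basicOpen g ∧
      ores (inf_le_right : V ⊓ U ≤ U) f * ores (inf_le_left : V ⊓ U ≤ V) g = 1) :
    ∃ (L : X.Modules) (s : Coh.structureModule X ⟶ L), PicF.IsInvertible L ∧ Curv2.IsGloballyGenerated L ∧
      CohB1.genLocus L s = U := by
  classical
  choose V g hxV hVx hbasic hfg using fun x : {x : X // x ∉ U} => h x.1 x.2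
  let w : ∀ i : {x : X // x ∉ U}, Γ(X, V i ⊓ U) := fun i => ores inf_le_right f
  let G : Pic18.Glue X :=
    { U := U
      ι := {x : X // x ∉ U}
      V := V
      P := Coh.structureModule X
      g := fun i => w i • one (V i ⊓ U)
      hg := fun i W hW => by
        have hwu : IsUnit (ores hW (w i)) := (IsUnit.of_mul_eq_one _ (hfg i)).map _
        have key : ∀ r : Γ(X, W), r • mres (Coh.structureModule X) hW (w i • one (V i ⊓ U)) =
            ((r * ores hW (w i) : Γ(X, W)) : Γ(Coh.structureModule X, W)) := fun r => by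
          rw [mres_smul, mres_one, ← mul_smul, smul_one']
        simp only [key]
        exact IsUnit.isUnit_iff_mulRight_bijective.mp hwu
      hP := fun p hp => ⟨U, one U, hp, le_rfl, fun W hW => by
        have key : ∀ r : Γ(X, W), r • mres (Coh.structureModule X) hW (one U) =
            (r : Γ(Coh.structureModule X, W)) := fun r => by rw [mres_one, smul_one']
        simp only [key]
        exact Function.bijective_id⟩
      disj := fun i j hij z hz => by
        by_contra hzU
        exact hij (Subtype.ext ((hVx i z hz.1 hzU).symm.trans (hVx j z hz.2 hzU)))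
      cov := fun p => (em (p ∈ U)).imp id fun h => ⟨⟨p, h⟩, hxV ⟨p, h⟩⟩ }
  -- a section of `G` from compatible local data
  have hsec : ∀ (a : Γ(X, U)) (b : ∀ i, Γ(X, V i)),
      (∀ i, ores (inf_le_right : V i ⊓ U ≤ U) a = ores (inf_le_left : V i ⊓ U ≤ V i) (b i) * w i) →
      ∃ t : Γ(G.mod, ⊤), (∀ (p : X) (hp : p ∈ U), t.1 ⟨p, trivial⟩ =
          ((Coh.structureModule X).presheaf.germ U p hp (a • one U), 0)) ∧
        ∀ (p : X) (hp : p ∉ U), t.1 ⟨p, trivial⟩ = (0, X.presheaf.germ (V ⟨p, hp⟩) p (hxV ⟨p, hp⟩) (b ⟨p, hp⟩)) := by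
    intro a b hab
    let σ : ∀ p : (⊤ : X.Opens), G.T p.1 := fun p =>
      if h : p.1 ∈ U then ((Coh.structureModule X).presheaf.germ U p.1 h (a • one U), 0)
      else (0, X.presheaf.germ (V ⟨p.1, h⟩) p.1 (hxV ⟨p.1, h⟩) (b ⟨p.1, h⟩))
    have hσ : G.pre.sheafify.pred σ := by
      intro p
      by_cases hp : p.1 ∈ U
      · exact ⟨U, hp, homOfLE le_top, Or.inl ⟨le_rfl, a • one U, fun q => dif_pos q.2⟩⟩
      · refine ⟨V ⟨p.1, hp⟩, hxV _, homOfLE le_top, Or.inr ⟨⟨p.1, hp⟩, le_rfl, b ⟨p.1, hp⟩, fun q => ?_⟩⟩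
        by_cases hq : q.1 ∈ U
        · refine (dif_pos (hq : q.1 ∈ U)).trans ?_
          have hqV : q.1 ∈ V ⟨p.1, hp⟩ ⊓ U := ⟨q.2, hq⟩
          rw [G.E_pos (i := ⟨p.1, hp⟩) hqV, Prod.smul_mk, smul_zero]
          refine Prod.ext ?_ rfl
          show (Coh.structureModule X).presheaf.germ U q.1 hq (a • one U) =
            X.presheaf.germ (V ⟨p.1, hp⟩) q.1 q.2 (b ⟨p.1, hp⟩) •
              ((Coh.structureModule X).presheaf.germ (V ⟨p.1, hp⟩ ⊓ U) q.1 hqV (w ⟨p.1, hp⟩ • one _) :
                (Coh.structureModule X).presheaf.stalk q.1)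
          have hval : mres (Coh.structureModule X) (inf_le_right : V ⟨p.1, hp⟩ ⊓ U ≤ U) (a • one U) =
              ores (inf_le_left : V ⟨p.1, hp⟩ ⊓ U ≤ _) (b ⟨p.1, hp⟩) • w ⟨p.1, hp⟩ • one _ := by
            rw [mres_smul, mres_one, ← mul_smul, ← hab]
          have := congrArg ((Coh.structureModule X).presheaf.germ (V ⟨p.1, hp⟩ ⊓ U) q.1 hqV) hval
          rw [germ_mres, germ_smul _ hqV (ores inf_le_left (b ⟨p.1, hp⟩)), X.presheaf.germ_res_apply] at this
          exact this
        · obtain ⟨p, hptop⟩ := p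
          obtain ⟨q, hqV⟩ := q
          obtain rfl : q = p := hVx ⟨p, hp⟩ q hqV hq
          refine (dif_neg hq).trans ?_
          rw [G.E_neg (i := ⟨q, hp⟩) hq]
          exact Prod.ext (smul_zero _).symm (mul_one _).symm
    exact ⟨⟨σ, hσ⟩, fun p hp => dif_pos hp, fun p hp => dif_neg hp⟩
  obtain ⟨t, htU, htV⟩ := hsec 1 g fun i => by
    rw [map_one, mul_comm]; exact (hfg i).symm
  obtain ⟨t', ht'U, ht'V⟩ := hsec f (fun i => 1) fun i => by
    rw [map_one, one_mul]
  have htgen : Twist.IsGen G.mod U (mres G.mod (le_top : U ≤ ⊤) t) := by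
    have e : mres G.mod (le_top : U ≤ ⊤) t = G.ofN (W := U) le_rfl (one U) :=
      Subtype.ext (funext fun q => (htU q.1 q.2).trans (by rw [one_smul]; rfl))
    rw [e]
    refine G.isGen_ofN le_rfl fun W hW => ?_
    have key : ∀ r : Γ(X, W), r • mres (Coh.structureModule X) hW (one U) =
        (r : Γ(Coh.structureModule X, W)) := fun r => by rw [mres_one, smul_one']
    exact (funext key).symm ▸ Function.bijective_id
  have ht'gen : ∀ i, Twist.IsGen G.mod (V i) (mres G.mod (le_top : V i ≤ ⊤) t') := by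
    intro i
    have e : mres G.mod (le_top : V i ≤ ⊤) t' = G.e i := by
      refine Subtype.ext (funext fun q => ?_)
      by_cases hq : q.1 ∈ U
      · refine (ht'U q.1 hq).trans ?_
        show _ = G.E i q.1
        rw [G.E_pos (i := i) ⟨q.2, hq⟩]
        refine Prod.ext ?_ rfl
        show (Coh.structureModule X).presheaf.germ U q.1 hq (f • one U) =
          (Coh.structureModule X).presheaf.germ (V i ⊓ U) q.1 ⟨q.2, hq⟩ (w i • one _)
        rw [← germ_mres (Coh.structureModule X) (inf_le_right : V i ⊓ U ≤ U) ⟨q.2, hq⟩, mres_smul, mres_one]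
      · obtain ⟨q, hqV⟩ := q
        obtain ⟨i, hi⟩ := i
        obtain rfl : q = i := hVx ⟨i, hi⟩ q hqV hq
        refine (ht'V q hq).trans ?_
        show _ = G.E ⟨q, hi⟩ q
        rw [G.E_neg hq, map_one]
    rw [e]
    exact G.isGen_e i
  refine ⟨G.mod, secHom t, G.isInvertible, ⟨ULift.{u} Bool, freeHom fun b => if b.down then t else t', ?_⟩,
    Twist.genLocus_secHom_eq t U (fun W hW => ?_) fun U' hU' x hx' => ?_⟩
  · let τ : ULift.{u} Bool → Γ(G.mod, ⊤) := fun b => if b.down then t else t'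
    refine (epi_iff_stalk (freeHom τ)).2 fun x => ?_
    have hmem : ∀ b, (G.mod.presheaf.germ ⊤ x trivial (τ b) : G.mod.presheaf.stalk x) ∈
        ((M1.stalkAb x).map (freeHom τ)).hom.range := fun b =>
      ⟨(fr (ULift.{u} Bool) : X.Modules).presheaf.germ ⊤ x trivial ((ιF b).app ⊤ (one ⊤)), by
        refine (germ_naturality (freeHom τ) ⊤ x trivial _).trans (congrArg _ ?_)
        show (ιF b ≫ freeHom τ).app ⊤ (one ⊤) = _
        rw [ιF_freeHom, secHom_app_one]⟩
    rcases G.cov x with hx | ⟨i, hi⟩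
    · refine CohFound.surjective_stalk_of_span (freeHom τ) x {G.mod.presheaf.germ ⊤ x trivial t}
        (eq_top_iff.2 fun m _ => ?_) fun _ ht => ?_
      · obtain ⟨c, rfl⟩ := (htgen.stalk (show x ∈ U from hx)).2 m
        refine Submodule.smul_mem _ c (Submodule.subset_span ?_)
        exact germ_mres G.mod _ _ t
      · obtain rfl := ht
        exact hmem ⟨true⟩
    · refine CohFound.surjective_stalk_of_span (freeHom τ) x {G.mod.presheaf.germ ⊤ x trivial t'}
        (eq_top_iff.2 fun m _ => ?_) fun _ ht => ?_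
      · obtain ⟨c, rfl⟩ := ((ht'gen i).stalk hi).2 m
        refine Submodule.smul_mem _ c (Submodule.subset_span ?_)
        exact germ_mres G.mod _ _ t'
      · obtain rfl := ht
        exact hmem ⟨false⟩
  · simpa only [mres_mres] using htgen W hW
  · by_contra hx
    let i : {x : X // x ∉ U} := ⟨x, hx⟩
    obtain ⟨b, hb⟩ := (hU' (U' ⊓ V i) inf_le_left).2 (mres G.mod inf_le_right (G.e i))
    have h := congrArg (fun m : Γ(G.mod, U' ⊓ V i) => (m.1 ⟨x, ⟨hx', hxV i⟩⟩).2) hb
    have h' : X.presheaf.germ (U' ⊓ V i) x ⟨hx', hxV i⟩ b * (t.1 ⟨x, trivial⟩).2 = (G.E i x).2 := h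
    rw [G.E_neg hx, htV x hx] at h'
    have h1 : X.presheaf.germ (U' ⊓ V i) x ⟨hx', hxV i⟩ b * X.presheaf.germ (V i) x (hxV i) (g i) = 1 := h'
    have hmem := (X.mem_basicOpen (g i) x (hxV i)).2 (isUnit_of_mul_isUnit_right (h1 ▸ isUnit_one))
    rw [← hbasic i] at hmem
    exact hx hmem.2

end Groth.Agent.PoleSec15
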