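import Groth.Agent.Lib.PoleSec15.Alg
import Groth.Agent.Lib.Pic18.Main
import Groth.Agent.Lib.CohFound.ModQuot
import Groth.Prelude.Def_Curv2
import Mathlib.AlgebraicGeometry.Morphisms.Separated
import Mathlib.AlgebraicGeometry.FunctionField

/-!
# Sections with poles along a finite complement of an affine open
-/

universe u

set_option autoImplicit false
set_option linter.style.haveILetI false

open AlgebraicGeometry CategoryTheory TopologicalSpace Opposite

namespace Groth.Agent.PoleSec15

open Groth.Agent.M1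

variable {X : Scheme.{u}} [IsIntegral X] {U : X.Opens}

/-- Outside an affine open of a separated scheme the regular functions are not all bounded. -/
theorem exists_one_lt [X.IsSeparated] (hU : IsAffineOpen U) (hη : genericPoint X ∈ U) {x : X}
    (hx : x ∉ U) {Γ₀ : Type} [LinearOrderedCommGroupWithZero Γ₀]
    (v : Valuation X.functionField Γ₀)
    (h1 : ∀ r : X.presheaf.stalk x, v (algebraMap (X.presheaf.stalk x) X.functionField r) ≤ 1)
    (h2 : ∀ r ∈ IsLocalRing.maximalIdeal (X.presheaf.stalk x),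
      v (algebraMap (X.presheaf.stalk x) X.functionField r) < 1) :
    ∃ c : Γ(X, U), 1 < v ((X.presheaf.germ U (genericPoint X) hη).hom c) := by
  by_contra hcon
  push Not at hcon
  let η := genericPoint X
  let W := v.valuationSubring
  let α : X.presheaf.stalk x →+* W :=
    (algebraMap (X.presheaf.stalk x) X.functionField).codRestrict W.toSubring h1
  let β : Γ(X, U) →+* W := (X.presheaf.germ U η hη).hom.codRestrict W.toSubring hcon
  let a : Spec (CommRingCat.of W) ⟶ X := Spec.map (CommRingCat.ofHom α) ≫ X.fromSpecStalk x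
  let b : Spec (CommRingCat.of W) ⟶ X := Spec.map (CommRingCat.ofHom β) ≫ hU.fromSpec
  let ι : Spec (CommRingCat.of X.functionField) ⟶ Spec (CommRingCat.of W) :=
    Spec.map (CommRingCat.ofHom W.subtype)
  haveI : IsDominant ι := ⟨by
    show DenseRange (PrimeSpectrum.comap W.subtype)
    exact (PrimeSpectrum.denseRange_comap_iff_ker_le_nilRadical _).2 fun z hz =>
      (show z = 0 from Subtype.ext hz) ▸ Ideal.zero_mem _⟩
  have hg : ι ≫ a = ι ≫ b := by
    have e1 : ι ≫ a = X.fromSpecStalk η := by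
      show Spec.map _ ≫ Spec.map _ ≫ _ = _
      rw [← Spec.map_comp_assoc, ← Scheme.SpecMap_stalkSpecializes_fromSpecStalk
        ((genericPoint_spec X).specializes (Set.mem_univ x))]
      rfl
    have e2 : ι ≫ b = X.fromSpecStalk η := by
      show Spec.map _ ≫ Spec.map _ ≫ _ = _
      rw [← Spec.map_comp_assoc, ← hU.fromSpecStalk_eq_fromSpecStalk hη]
      rfl
    rw [e1, e2]
  have hab : a = b := ext_of_isDominant_of_isSeparated (Limits.terminal.from X)
    (Limits.terminal.hom_ext _ _) ι hg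
  let w : Spec (CommRingCat.of W) := IsLocalRing.closedPoint W
  have ha : a w = x := by
    have hmax : PrimeSpectrum.comap α (IsLocalRing.closedPoint W) = IsLocalRing.closedPoint (X.presheaf.stalk x) := by
      refine PrimeSpectrum.ext (le_antisymm (IsLocalRing.le_maximalIdeal (Ideal.IsPrime.ne_top inferInstance))
        fun r hr => ?_)
      show α r ∈ IsLocalRing.maximalIdeal W
      intro hu
      obtain ⟨q, hq⟩ := hu.exists_right_inv
      have hq' := congrArg v (congrArg Subtype.val hq)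
      rw [MulMemClass.coe_mul, OneMemClass.coe_one, map_mul, map_one] at hq'
      exact (mul_lt_one_of_lt_of_le (h2 r hr) q.2).ne hq'
    show X.fromSpecStalk x (PrimeSpectrum.comap α (IsLocalRing.closedPoint W)) = x
    rw [hmax]
    exact Scheme.fromSpecStalk_closedPoint
  refine hx ?_
  rw [← ha, hab]
  exact hU.range_fromSpec.le ⟨_, rfl⟩

/-- A function on `U` whose inverse vanishes at every point outside `U`. -/
theorem exists_pole_section [X.IsSeparated] (hU : IsAffineOpen U) (hne : (U : Set X).Nonempty)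
    (hfin : ((U : Set X)ᶜ).Finite)
    (hloc : ∀ x : X, x ∉ U → IsNoetherianRing (X.presheaf.stalk x) ∧ ringKrullDim (X.presheaf.stalk x) = 1) :
    ∃ f : Γ(X, U), ∀ x : X, ∀ hx : x ∉ U, ∃ (V : X.Opens) (g : Γ(X, V)), x ∈ V ∧
      (∀ z ∈ V, z ∉ U → z = x) ∧ V ⊓ U = X.basicOpen g ∧
      ores (inf_le_right : V ⊓ U ≤ U) f * ores (inf_le_left : V ⊓ U ≤ V) g = 1 := by
  classical
  obtain ⟨y, hy⟩ := hne
  have hη : genericPoint X ∈ U := (genericPoint_specializes y).mem_open U.2 hy
  let S := {x : X // x ∉ U}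
  haveI : Finite S := hfin.to_subtype
  haveI := Fintype.ofFinite S
  let K := X.functionField
  have hv : ∀ x : S, ∃ (ι : Type u) (_ : Fintype ι) (v : ι → Valuation K (WithZero (Multiplicative ℤ))),
      (∀ i, (∀ r : X.presheaf.stalk x.1, v i (algebraMap _ K r) ≤ 1) ∧
        ∀ r ∈ IsLocalRing.maximalIdeal (X.presheaf.stalk x.1), v i (algebraMap _ K r) < 1) ∧
      ∀ w : K, (∀ i, v i w < 1) → ∃ n : ℕ, ∀ N, n ≤ N →
        ∃ t ∈ IsLocalRing.maximalIdeal (X.presheaf.stalk x.1), algebraMap _ K t = w ^ N := fun x => by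
    haveI := (hloc x.1 x.2).1
    haveI : Ring.KrullDimLE 1 (X.presheaf.stalk x.1) := Ring.krullDimLE_iff.2 (hloc x.1 x.2).2.le
    refine exists_valuations fun hf => ?_
    have := ringKrullDim_eq_zero_of_isField hf
    rw [(hloc x.1 x.2).2] at this
    exact one_ne_zero this
  choose ι hι v hv hw using hv
  haveI := hι
  let C : Subring K := (X.presheaf.germ U (genericPoint X) hη).hom.range
  obtain ⟨f₀, ⟨f, rfl⟩, hf⟩ := exists_forall_one_lt (Finset.univ : Finset (Σ x : S, ι x))
    (fun p => v p.1 p.2) C fun p _ => by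
      obtain ⟨c, hc⟩ := exists_one_lt hU hη p.1.2 (v p.1 p.2) (hv p.1 p.2).1 (hv p.1 p.2).2
      exact ⟨_, ⟨c, rfl⟩, hc⟩
  let fK : K := (X.presheaf.germ U (genericPoint X) hη).hom f
  have hpow : ∀ x : S, ∃ n : ℕ, ∀ N, n ≤ N → ∃ t ∈ IsLocalRing.maximalIdeal (X.presheaf.stalk x.1),
      algebraMap _ K t = fK⁻¹ ^ N := fun x => hw x _ fun i => by
    rw [map_inv₀]
    exact inv_lt_one_of_one_lt₀ (hf ⟨x, i⟩ (Finset.mem_univ _))
  choose n hn using hpow
  let N := ∑ x : S, n x + 1
  refine ⟨f ^ N, fun x hx => ?_⟩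
  obtain ⟨t, htm, ht⟩ := hn ⟨x, hx⟩ N
    ((Finset.single_le_sum (fun _ _ => Nat.zero_le _) (Finset.mem_univ (⟨x, hx⟩ : S))).trans (Nat.le_succ _))
  have hfK : fK ≠ 0 := by
    intro h0
    have htz : t = 0 := by
      refine (injective_iff_map_eq_zero (algebraMap (X.presheaf.stalk x) K)).1 ?_ t ?_
      · exact IsFractionRing.injective _ _
      · rw [ht, h0, inv_zero, zero_pow (Nat.succ_ne_zero _)]
    obtain ⟨i⟩ : Nonempty (ι ⟨x, hx⟩) := by
      by_contra hem
      rw [not_nonempty_iff] at hem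
      obtain ⟨m, hm⟩ := hw ⟨x, hx⟩ 1 isEmptyElim
      obtain ⟨r, hr, e⟩ := hm m le_rfl
      rw [one_pow, ← map_one (algebraMap (X.presheaf.stalk x) K)] at e
      exact (IsFractionRing.injective _ _ e ▸ hr) isUnit_one
    have := hf ⟨⟨x, hx⟩, i⟩ (Finset.mem_univ _)
    rw [show (X.presheaf.germ U (genericPoint X) hη).hom f = fK from rfl, h0, map_zero] at this
    exact not_lt_zero this
  obtain ⟨A, hxA, g₀, hg₀⟩ := X.presheaf.exists_germ_eq t
  have hdisc : DiscreteTopology ↥((U : Set X)ᶜ) := by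
    haveI : Finite ↥((U : Set X)ᶜ) := hfin.to_subtype
    haveI : T1Space ↥((U : Set X)ᶜ) := by
      refine t1Space_iff_specializes_imp_eq.2 fun a b hab => Subtype.ext ?_
      have hab' : a.1 ⤳ b.1 := subtype_specializes_iff _ _ |>.1 hab
      by_contra hne
      have hlt : ringKrullDim (X.presheaf.stalk a.1) < ringKrullDim (X.presheaf.stalk b.1) := by
        rw [ringKrullDim_stalk_eq_coheight, ringKrullDim_stalk_eq_coheight, WithBot.coe_lt_coe]
        refine Order.coheight_strictAnti (lt_of_le_not_ge hab' fun h => hne ?_) ?_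
        · exact (hab'.antisymm h).eq
        · have := (hloc a.1 a.2).2
          rw [ringKrullDim_stalk_eq_coheight] at this
          rw [show Order.coheight a.1 = 1 from WithBot.coe_eq_one.1 this]
          exact ENat.coe_lt_top 1
      rw [(hloc a.1 a.2).2, (hloc b.1 b.2).2] at hlt
      exact lt_irrefl _ hlt
    exact Finite.instDiscreteTopology
  obtain ⟨B, hxB, hB⟩ := Pic18.exists_open_inter_compl U hdisc hx
  let V := A ⊓ B
  let g : Γ(X, V) := ores (inf_le_left : V ≤ A) g₀
  have hgx : X.presheaf.germ V x ⟨hxA, hxB⟩ g = t :=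
    (X.presheaf.germ_res_apply _ _ _ _).trans hg₀
  have hone : ores (inf_le_right : V ⊓ U ≤ U) (f ^ N) * ores (inf_le_left : V ⊓ U ≤ V) g = 1 := by
    have hmem : genericPoint X ∈ V ⊓ U := ⟨(genericPoint_specializes x).mem_open V.2 ⟨hxA, hxB⟩, hη⟩
    apply germ_injective_of_isIntegral X (genericPoint X) hmem
    rw [map_mul, map_one, X.presheaf.germ_res_apply, X.presheaf.germ_res_apply, map_pow]
    have hgη : X.presheaf.germ V (genericPoint X) hmem.1 g = fK⁻¹ ^ N := by
      rw [← ht, ← hgx]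
      exact (ConcreteCategory.congr_hom (X.presheaf.germ_stalkSpecializes (U := V) ⟨hxA, hxB⟩ _) g).symm
    rw [hgη]
    show fK ^ N * fK⁻¹ ^ N = 1
    rw [← mul_pow, mul_inv_cancel₀ hfK, one_pow]
  refine ⟨V, g, ⟨hxA, hxB⟩, fun z hz => hB z hz.2, ?_, hone⟩
  ext z
  refine ⟨fun hz => ?_, fun hz => ?_⟩
  · obtain ⟨hzV, hzU⟩ := hz
    refine (X.mem_basicOpen g z hzV).2 ?_
    have := congrArg (X.presheaf.germ (V ⊓ U) z ⟨hzV, hzU⟩) hone
    rw [map_mul, map_one, X.presheaf.germ_res_apply, X.presheaf.germ_res_apply] at this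
    exact isUnit_of_mul_isUnit_right (this ▸ isUnit_one)
  · have hzV : z ∈ V := X.basicOpen_le g hz
    refine ⟨hzV, by_contra fun hzU => ?_⟩
    obtain rfl := hB z hzV.2 hzU
    have := (X.mem_basicOpen g z hzV).1 hz
    rw [hgx] at this
    exact htm this

end Groth.Agent.PoleSec15
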